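import Groth.Agent.LimSch.DescendObj
import Groth.Agent.LimSch.OpenMap
import Groth.Agent.GeomRedStrata.Scheme
import Groth.Agent.ProConsLib.Scheme
import Groth.Prelude.Def_EGA4Misc

/-!
Constructibility criteria for sets defined by generic behaviour on integral closed subschemes, and
descent of families of finite presentation to Noetherian bases (EGA IV 9.2).
-/

set_option autoImplicit false
universe u

open CategoryTheory Limits AlgebraicGeometry Topology TopologicalSpace

namespace Groth.Agent.ConsProp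

section Noetherian

variable {R : CommRingCat.{u}} [IsNoetherianRing R]

/-- A non-empty open subset of the closure of a point of `Spec R` contains a basic neighbourhood. -/
theorem exists_basic_of_open (J : PrimeSpectrum R) (O : Set (PrimeSpectrum (R ⧸ J.asIdeal)))
    (hO : IsOpen O) (hne : O.Nonempty) : ∃ c ∉ J.asIdeal, ∀ p : PrimeSpectrum R,
      J.asIdeal ≤ p.asIdeal → c ∉ p.asIdeal →
        ∃ q ∈ O, PrimeSpectrum.comap (Ideal.Quotient.mk J.asIdeal) q = p := by
  obtain ⟨_, ⟨r, rfl⟩, ⟨q₀, hq₀⟩, hsub⟩ :=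
    PrimeSpectrum.isTopologicalBasis_basic_opens.exists_nonempty_subset hne hO
  obtain ⟨c, rfl⟩ := Ideal.Quotient.mk_surjective r
  refine ⟨c, fun hc => ?_, fun p hp hcp => ?_⟩
  · refine hq₀ ?_
    rw [Ideal.Quotient.eq_zero_iff_mem.mpr hc]
    exact zero_mem _
  · obtain ⟨q, rfl⟩ : p ∈ Set.range (PrimeSpectrum.comap (Ideal.Quotient.mk J.asIdeal)) := by
      rw [range_comap_of_surjective _ _ Ideal.Quotient.mk_surjective, PrimeSpectrum.mem_zeroLocus,
        Ideal.mk_ker]
      exact hp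
    exact ⟨q, hsub hcp, rfl⟩

/-- Constructible sets are recognised on integral closed subschemes. -/
theorem isConstructible_spec (E : Set ↥(Spec R))
    (h : ∀ ⦃Z : Scheme.{u}⦄ (j : Z ⟶ Spec R) [IsClosedImmersion j] [IsIntegral Z] [IsNoetherian Z],
      (interior (j ⁻¹' E)).Nonempty ∨ (interior (j ⁻¹' E)ᶜ).Nonempty) : IsConstructible E := by
  refine GeomRedStrata.isConstructible_of_strata (R := R) (fun p : PrimeSpectrum R => (p : Spec R) ∈ E) fun J => ?_
  let q : R ⟶ CommRingCat.of (R ⧸ J.asIdeal) := CommRingCat.ofHom (Ideal.Quotient.mk J.asIdeal)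
  haveI : IsClosedImmersion (Spec.map q) := IsClosedImmersion.spec_of_surjective _ Ideal.Quotient.mk_surjective
  rcases h (Spec.map q) with hne | hne
  all_goals
    obtain ⟨c, hc, hcov⟩ := exists_basic_of_open J _ isOpen_interior hne
    refine ⟨c, hc, fun p hp hcp => ?_⟩
    obtain ⟨a, ha, rfl⟩ := hcov p hp hcp
    obtain ⟨b, hb, hbJ⟩ := hcov J le_rfl hc
  · exact iff_of_true (show (Spec.map q) a ∈ E from interior_subset (s := ⇑(Spec.map q) ⁻¹' E) ha)
      (hbJ ▸ (show (Spec.map q) b ∈ E from interior_subset (s := ⇑(Spec.map q) ⁻¹' E) hb))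
  · exact iff_of_false (show (Spec.map q) a ∉ E from interior_subset (s := (⇑(Spec.map q) ⁻¹' E)ᶜ) ha)
      (hbJ ▸ (show (Spec.map q) b ∉ E from interior_subset (s := (⇑(Spec.map q) ⁻¹' E)ᶜ) hb))

/-- Ind-constructible sets are recognised on integral closed subschemes. -/
theorem isInd_spec (E : Set ↥(Spec R))
    (h : ∀ ⦃Z : Scheme.{u}⦄ (j : Z ⟶ Spec R) [IsClosedImmersion j] [IsIntegral Z] [IsNoetherian Z],
      genericPoint Z ∈ j ⁻¹' E → (interior (j ⁻¹' E)).Nonempty) : ProCons.IsIndConstructible E := by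
  have key : ∀ J : E, ∃ T : Set ↥(Spec R), (J : ↥(Spec R)) ∈ T ∧ T ⊆ E ∧ IsLocallyConstructible T := by
    rintro ⟨J, hJ⟩
    let J' : PrimeSpectrum R := J
    let q : R ⟶ CommRingCat.of (R ⧸ J'.asIdeal) := CommRingCat.ofHom (Ideal.Quotient.mk J'.asIdeal)
    haveI : IsClosedImmersion (Spec.map q) := IsClosedImmersion.spec_of_surjective _ Ideal.Quotient.mk_surjective
    have hgen : Spec.map q (genericPoint (Spec (CommRingCat.of (R ⧸ J'.asIdeal)))) = J := by
      rw [genericPoint_eq_bot_of_affine]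
      exact PrimeSpectrum.ext Ideal.mk_ker
    obtain ⟨c, hc, hcov⟩ := exists_basic_of_open J' _ isOpen_interior
      (h (Spec.map q) (by rw [Set.mem_preimage, hgen]; exact hJ))
    refine ⟨PrimeSpectrum.zeroLocus (J'.asIdeal : Set R) \ PrimeSpectrum.zeroLocus {c},
      ⟨le_refl J'.asIdeal, fun hm => hc (hm (Set.mem_singleton c))⟩, ?_,
      ((ConstrSets.isConstructible_of_isClosed (PrimeSpectrum.isClosed_zeroLocus _)).sdiff
        (ConstrSets.isConstructible_of_isClosed (PrimeSpectrum.isClosed_zeroLocus _))).isLocallyConstructible⟩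
    rintro p ⟨hp, hcp⟩
    obtain ⟨a, ha, rfl⟩ := hcov p hp fun hc' => hcp (Set.singleton_subset_iff.mpr hc')
    exact interior_subset (s := ⇑(Spec.map q) ⁻¹' E) ha
  choose T hmem hsub hT using key
  have : E = ⋃ J, T J := Set.Subset.antisymm (fun x hx => Set.mem_iUnion.mpr ⟨⟨x, hx⟩, hmem ⟨x, hx⟩⟩)
    (Set.iUnion_subset hsub)
  rw [this]
  exact ProConsLib.isInd_iUnion fun J => ProConsLib.isInd_of_isLocallyConstructible (hT J)

end Noetherian

section Descent

/-- An affine scheme is a limit of spectra of Noetherian rings. -/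
theorem exists_system (S : Scheme.{u}) [IsAffine S] :
    ∃ (I : Type u) (_ : SmallCategory I) (_ : IsCofiltered I) (D : I ⥤ Scheme.{u}) (c : Cone D) (_ : IsLimit c)
      (R : I → CommRingCat.{u}) (e : S ≅ c.pt), (∀ i, IsNoetherianRing (R i)) ∧ ∀ i, D.obj i = Spec (R i) := by
  classical
  haveI : IsNoetherianRing (ULift.{u} ℤ) := isNoetherianRing_of_ringEquiv ℤ ULift.ringEquiv.symm
  letI : Algebra (ULift.{u} ℤ) Γ(S, ⊤) := ((algebraMap ℤ Γ(S, ⊤)).comp ULift.ringEquiv.toRingHom).toAlgebra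
  let B : Finset Γ(S, ⊤) → Subalgebra (ULift.{u} ℤ) Γ(S, ⊤) := fun s => Algebra.adjoin (ULift.{u} ℤ) (s : Set Γ(S, ⊤))
  have hB : Monotone B := fun s t h => Algebra.adjoin_mono h
  let D := LimSch.subalgDiag B hB
  let c : Cone D := LimSch.subalgCone B hB
  refine ⟨(Finset Γ(S, ⊤))ᵒᵖ, inferInstance, inferInstance, D, c,
    ?_, ?_, ?_, ?_, ?_⟩
  · exact LimSch.isLimitSubalgCone B hB fun b => ⟨{b}, Algebra.subset_adjoin (by simp)⟩
  · exact fun s => CommRingCat.of (B s.unop)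
  · exact S.isoSpec
  · exact fun s => isNoetherianRing_of_fg ⟨s.unop, rfl⟩
  · exact fun s => rfl

/-- Morphisms between schemes of finite presentation over a limit come from a stage. -/
theorem exists_stage_mor {I : Type u} [SmallCategory I] [IsCofiltered I] {D : I ⥤ Scheme.{u}} {c : Cone D}
    (hc : IsLimit c) [∀ (i j : I) (f : i ⟶ j), IsAffineHom (D.map f)] [∀ i, CompactSpace (D.obj i)]
    [∀ i, QuasiSeparatedSpace (D.obj i)] {X Y : Scheme.{u}} (f : X ⟶ Y) (g : Y ⟶ c.pt)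
    [LocallyOfFinitePresentation g] [QuasiCompact g] [QuasiSeparated g]
    [LocallyOfFinitePresentation (f ≫ g)] [QuasiCompact (f ≫ g)] [QuasiSeparated (f ≫ g)] :
    ∃ (j : I) (X₀ Y₀ : Scheme.{u}) (f₀ : X₀ ⟶ Y₀) (g₀ : Y₀ ⟶ D.obj j) (qX : X ⟶ X₀) (qY : Y ⟶ Y₀),
      LocallyOfFinitePresentation g₀ ∧ QuasiCompact g₀ ∧ QuasiSeparated g₀ ∧
      LocallyOfFinitePresentation (f₀ ≫ g₀) ∧ QuasiCompact (f₀ ≫ g₀) ∧ QuasiSeparated (f₀ ≫ g₀) ∧
      IsPullback qY g g₀ (c.π.app j) ∧ IsPullback qX f f₀ qY := by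
  obtain ⟨i₁, Y₁, y₁, qY₁, _, _, _, hY₁⟩ := LimSch.exists_model hc g
  obtain ⟨i₂, X₂, x₂, qX₂, _, _, _, hX₂⟩ := LimSch.exists_model hc (f ≫ g)
  obtain ⟨k, a₁, a₂, -⟩ : ∃ (i : I) (_ : i ⟶ i₁) (_ : i ⟶ i₂), True :=
    ⟨_, IsCofiltered.minToLeft i₁ i₂, IsCofiltered.minToRight i₁ i₂, trivial⟩
  obtain ⟨qYk, hYk⟩ := LimSch.isPullback_stage D c hc hY₁ a₁
  obtain ⟨qXk, hXk⟩ := LimSch.isPullback_stage D c hc hX₂ a₂
  haveI : CompactSpace ↥(pullback x₂ (D.map a₂)) :=
    QuasiCompact.compactSpace_of_compactSpace (pullback.snd x₂ (D.map a₂))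
  haveI : QuasiSeparatedSpace ↥(pullback x₂ (D.map a₂)) :=
    quasiSeparatedSpace_of_quasiSeparated (pullback.snd x₂ (D.map a₂))
  obtain ⟨j, φ, m, hm, hmq⟩ := LimSch.exists_hom_stage D c hc hXk (yi := pullback.snd y₁ (D.map a₁)) (f ≫ qYk)
    (by rw [Category.assoc, hYk.w, Category.assoc])
  let gj := pullback.snd (pullback.snd y₁ (D.map a₁)) (D.map φ)
  let xj := pullback.snd (pullback.snd x₂ (D.map a₂)) (D.map φ)
  let f₀ : pullback (pullback.snd x₂ (D.map a₂)) (D.map φ) ⟶ pullback (pullback.snd y₁ (D.map a₁)) (D.map φ) :=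
    pullback.lift m xj hm
  have hf₀ : f₀ ≫ gj = xj := pullback.lift_snd _ _ _
  let qY : Y ⟶ pullback (pullback.snd y₁ (D.map a₁)) (D.map φ) := pullback.lift qYk (g ≫ c.π.app j)
    (by rw [Category.assoc, c.w]; exact hYk.w)
  let qX : X ⟶ pullback (pullback.snd x₂ (D.map a₂)) (D.map φ) := pullback.lift qXk ((f ≫ g) ≫ c.π.app j)
    (by rw [Category.assoc _ (c.π.app j), c.w]; exact hXk.w)
  have hY : IsPullback qY g gj (c.π.app j) := by
    refine IsPullback.of_right ?_ (pullback.lift_snd _ _ _) (IsPullback.of_hasPullback _ (D.map φ))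
    rw [pullback.lift_fst, c.w]; exact hYk
  have hX : IsPullback qX (f ≫ g) xj (c.π.app j) := by
    refine IsPullback.of_right ?_ (pullback.lift_snd _ _ _) (IsPullback.of_hasPullback _ (D.map φ))
    rw [pullback.lift_fst, c.w]; exact hXk
  refine ⟨j, _, _, f₀, gj, qX, qY, inferInstance, inferInstance, inferInstance, by rw [hf₀]; infer_instance,
    by rw [hf₀]; infer_instance, by rw [hf₀]; infer_instance, hY, ?_⟩
  refine IsPullback.of_bot (by rw [hf₀]; exact hX) ?_ hY
  apply pullback.hom_ext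
  · rw [Category.assoc, pullback.lift_fst, Category.assoc, pullback.lift_fst, ← hmq]
  · rw [Category.assoc, pullback.lift_snd, Category.assoc, pullback.lift_snd, pullback.lift_snd, Category.assoc]

end Descent

end Groth.Agent.ConsProp
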