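import Groth.Agent.ConsProp.FibreRel
import Groth.Agent.ConstrFib.Basic
import Groth.Agent.ConstrFib.Finite
import Groth.Agent.ConstrFib.QuasiFinite
import Groth.Agent.FpqcDescent.Basic
import Groth.Agent.FpqcDescent.Topological
import Mathlib.AlgebraicGeometry.Morphisms.FlatDescent

/-!
First examples of constructible properties (EGA IV 9.3.2): finite, radicial, quasi-finite.
-/

set_option autoImplicit false
set_option backward.isDefEq.respectTransparency.types false
universe u

open CategoryTheory Limits AlgebraicGeometry Topology TopologicalSpace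

namespace Groth.Agent.ConsProp

/-- An extension of fields is fpqc. -/
theorem fpqc_of_point {T T' : Scheme.{u}} (h : T' ⟶ T) [IsIntegral T] [Subsingleton T] [IsIntegral T']
    [Subsingleton T'] :
    (@Surjective ⊓ @Flat ⊓ @QuasiCompact : MorphismProperty Scheme.{u}) h := by
  refine ⟨⟨⟨fun t => ⟨Classical.arbitrary _, Subsingleton.elim _ _⟩⟩, ?_⟩, inferInstance⟩
  rw [Flat.iff_flat_stalkMap]
  intro x
  have hf : IsField (T.presheaf.stalk (h x)) := by
    rw [Subsingleton.elim (h x) (genericPoint T)]
    exact Field.toIsField T.functionField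
  letI := hf.toField
  let := (h.stalkMap x).hom.toAlgebra
  exact (RingHom.flat_algebraMap_iff (R := T.presheaf.stalk (h x)) (S := T'.presheaf.stalk x)).mpr inferInstance

theorem fpqc_bc {T T' Y Y' : Scheme.{u}} {h : T' ⟶ T} {g : Y ⟶ T} {g' : Y' ⟶ T'} {eY : Y' ⟶ Y} [IsIntegral T]
    [Subsingleton T] [IsIntegral T'] [Subsingleton T'] (hY : IsPullback eY g' g h) :
    (@Surjective ⊓ @Flat ⊓ @QuasiCompact : MorphismProperty Scheme.{u}) eY :=
  ⟨⟨MorphismProperty.of_isPullback hY.flip (fpqc_of_point h).1.1,
    MorphismProperty.of_isPullback hY.flip (fpqc_of_point h).1.2⟩,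
    MorphismProperty.of_isPullback hY.flip (fpqc_of_point h).2⟩

variable (Q : MorphismProperty Scheme.{u}) [Q.IsStableUnderBaseChange]
  [Q.DescendsAlong (@Surjective ⊓ @Flat ⊓ @QuasiCompact : MorphismProperty Scheme.{u})]

theorem isFieldStable_of_descends : ConsProp.IsFieldStable (fun Y T g => Q g) :=
  fun Y Y' T T' g g' e h _ _ _ _ _ _ sq =>
    ⟨fun hg => MorphismProperty.of_isPullback sq hg,
      fun hg => MorphismProperty.of_isPullback_of_descendsAlong sq.flip (fpqc_of_point h) hg⟩

theorem isFieldStableMor_of_descends : ConsProp.IsFieldStableMor (fun X Y T f g => Q f) := by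
  intro X X' Y Y' T T' f g f' g' eX eY h _ _ _ _ _ _ _ _ hY hX
  exact ⟨fun hf => MorphismProperty.of_isPullback hX hf,
    fun hf => MorphismProperty.of_isPullback_of_descendsAlong hX.flip (fpqc_bc hY) hf⟩

omit [Q.IsStableUnderBaseChange] [Q.DescendsAlong (@Surjective ⊓ @Flat ⊓ @QuasiCompact : MorphismProperty Scheme.{u})] in
theorem nonempty_interior_or {S : Scheme.{u}} [IrreducibleSpace S] {E : Set S}
    (hE : IsLocallyConstructible E) : (interior E).Nonempty ∨ (interior Eᶜ).Nonempty := by
  have key : ∀ F : Set S, IsLocallyConstructible F → genericPoint S ∈ F → (interior F).Nonempty :=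
    fun F hF h => ⟨_, (ProConsLib.mem_interior_iff (ProConsLib.isInd_of_isLocallyConstructible hF)).mpr fun x hx => by
      rwa [show x = genericPoint S from (hx.antisymm (genericPoint_specializes x)).eq]⟩
  by_cases h : genericPoint S ∈ E
  · exact Or.inl (key E hE h)
  · exact Or.inr (key Eᶜ (isLocallyConstructible_compl hE) h)

/-- Properties of morphisms with locally constructible loci are constructible. -/
theorem isCons_of_locus
    (h : ∀ ⦃X S : Scheme.{u}⦄ (f : X ⟶ S) [IsNoetherian S] [IsNoetherian X]
      [LocallyOfFiniteType f] [QuasiCompact f],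
      IsLocallyConstructible {s : S | Q (MoreMor.fiberMap f (𝟙 S) s)}) :
    ConsProp.IsCons (fun Y T g => Q g) := by
  refine ⟨isFieldStable_of_descends Q, fun X S u _ _ _ _ => ?_⟩
  haveI : IsLocallyNoetherian X := LocallyOfFiniteType.isLocallyNoetherian u
  haveI : CompactSpace X := QuasiCompact.compactSpace_of_compactSpace u
  haveI : IsNoetherian X := {}
  have e : {s : S | Q (MoreMor.fiberMap u (𝟙 S) s)} = ConsProp.locus (fun Y T g => Q g) (u ≫ 𝟙 S) := by
    ext s
    haveI : IsIso ((𝟙 S : S ⟶ S).fiberToSpecResidueField s) := by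
      exact MorphismProperty.pullback_snd (P := MorphismProperty.isomorphisms Scheme.{u}) (𝟙 S) _
        (inferInstanceAs (IsIso (𝟙 S)))
    rw [Set.mem_ofPred_eq, ← Q.cancel_right_of_respectsIso _ ((𝟙 S : S ⟶ S).fiberToSpecResidueField s), fiberMap_snd]
    rfl
  have h2 := nonempty_interior_or (e ▸ h u)
  simpa using h2

theorem isConsMor_of_locus
    (h : ∀ ⦃X Y S : Scheme.{u}⦄ (f : X ⟶ Y) (g : Y ⟶ S) [IsNoetherian S] [IsNoetherian X] [IsNoetherian Y]
      [LocallyOfFiniteType g] [QuasiCompact g] [LocallyOfFiniteType (f ≫ g)] [QuasiCompact (f ≫ g)],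
      IsLocallyConstructible {s : S | Q (MoreMor.fiberMap f g s)}) :
    ConsProp.IsConsMor (fun X Y T f g => Q f) := by
  refine ⟨isFieldStableMor_of_descends Q, fun X Y S f g _ _ _ _ _ _ => ?_⟩
  haveI : IsLocallyNoetherian X := LocallyOfFiniteType.isLocallyNoetherian (f ≫ g)
  haveI : CompactSpace X := QuasiCompact.compactSpace_of_compactSpace (f ≫ g)
  haveI : IsNoetherian X := {}
  haveI : IsLocallyNoetherian Y := LocallyOfFiniteType.isLocallyNoetherian g
  haveI : CompactSpace Y := QuasiCompact.compactSpace_of_compactSpace g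
  haveI : IsNoetherian Y := {}
  exact nonempty_interior_or (h f g)

theorem isCons_finite : ConsProp.IsCons (fun Y T g => IsFinite g) :=
  isCons_of_locus @IsFinite fun X S f _ _ _ _ =>
    haveI : QuasiSeparated f := QuasiSeparated.of_comp f (terminal.from S)
    ConstrFib.isLocallyConstructible_setOf_isFinite f (𝟙 S)

theorem isCons_radicial : ConsProp.IsCons (fun Y T g => UniversallyInjective g) :=
  isCons_of_locus @UniversallyInjective fun X S f _ _ _ _ =>
    haveI : QuasiSeparated (f ≫ 𝟙 S) := QuasiSeparated.of_comp (f ≫ 𝟙 S) (terminal.from S)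
    ConstrFib.isLocallyConstructible_setOf_universallyInjective f (𝟙 S)

theorem isConsMor_radicial : ConsProp.IsConsMor (fun X Y T f g => UniversallyInjective f) :=
  isConsMor_of_locus @UniversallyInjective fun X Y S f g _ _ _ _ _ _ _ =>
    haveI : QuasiSeparated g := QuasiSeparated.of_comp g (terminal.from S)
    haveI : QuasiSeparated (f ≫ g) := QuasiSeparated.of_comp (f ≫ g) (terminal.from S)
    ConstrFib.isLocallyConstructible_setOf_universallyInjective f g

theorem isConsMor_quasiFinite : ConsProp.IsConsMor.{u} (fun X Y T f g =>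
    LocallyOfFiniteType f ∧ QuasiCompact f ∧ LocallyQuasiFinite f) := by
  constructor
  · intro X X' Y Y' T T' f g f' g' eX eY h _ _ _ _ _ _ _ _ hY hX
    haveI : LocallyOfFiniteType f := locallyOfFiniteType_of_comp f g
    haveI : IsLocallyNoetherian Y := LocallyOfFiniteType.isLocallyNoetherian g
    haveI : QuasiSeparated g := QuasiSeparated.of_comp g (terminal.from T)
    haveI : QuasiCompact f := QuasiCompact.of_comp f g
    haveI : LocallyOfFiniteType f' := MorphismProperty.of_isPullback hX inferInstance
    haveI : QuasiCompact f' := MorphismProperty.of_isPullback hX inferInstance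
    refine ⟨fun hf => ⟨inferInstance, inferInstance, MorphismProperty.of_isPullback hX hf.2.2⟩, fun hf =>
      ⟨inferInstance, inferInstance, (MorphismProperty.of_isPullback_of_descendsAlong
        (P := (@LocallyQuasiFinite : MorphismProperty Scheme.{u}) ⊓ (@LocallyOfFiniteType : MorphismProperty Scheme.{u}))
        (Q := (@Surjective ⊓ @Flat ⊓ @QuasiCompact : MorphismProperty Scheme.{u})) hX.flip
        (fpqc_bc hY) ⟨hf.2.2, inferInstance⟩).1⟩⟩
  · intro X Y S f g _ _ _ _ _ _
    haveI : LocallyOfFiniteType f := locallyOfFiniteType_of_comp f g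
    haveI : QuasiSeparated g := by
      haveI : IsLocallyNoetherian Y := LocallyOfFiniteType.isLocallyNoetherian g
      exact QuasiSeparated.of_comp g (terminal.from S)
    haveI : IsLocallyNoetherian X := LocallyOfFiniteType.isLocallyNoetherian (f ≫ g)
    haveI : QuasiSeparated (f ≫ g) := QuasiSeparated.of_comp (f ≫ g) (terminal.from S)
    haveI : QuasiCompact f := QuasiCompact.of_comp f g
    have e : ConsProp.locusMor (fun X Y T f g =>
        LocallyOfFiniteType f ∧ QuasiCompact f ∧ LocallyQuasiFinite f) f g =
        {s : S | LocallyQuasiFinite (MoreMor.fiberMap f g s)} := by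
      ext s
      have hsq : IsPullback ((f ≫ g).fiberι s) (MoreMor.fiberMap f g s) f (g.fiberι s) :=
        IsPullback.of_bot (by erw [fiberMap_snd]; exact IsPullback.of_hasPullback (f ≫ g) (S.fromSpecResidueField s))
          (pullback.lift_fst _ _ _).symm (IsPullback.of_hasPullback g (S.fromSpecResidueField s))
      exact ⟨fun hh => hh.2.2, fun hh =>
        ⟨MorphismProperty.of_isPullback hsq inferInstance, MorphismProperty.of_isPullback hsq inferInstance, hh⟩⟩
    rw [e]
    exact nonempty_interior_or (ConstrFib.isLocallyConstructible_setOf_locallyQuasiFinite f g)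

end Groth.Agent.ConsProp
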