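import Groth.Agent.ConsProp.Base
import Groth.Agent.LimSch.DescendsHom
import Groth.Prelude.Def_W4ega4s0809p4Pair
import Mathlib.AlgebraicGeometry.Artinian

/-!
Ind-constructibility of "there is a morphism with property `Q` over an extension field" (EGA IV 9.3.4).
-/

set_option autoImplicit false
universe u

open CategoryTheory Limits AlgebraicGeometry Topology TopologicalSpace

namespace Groth.Agent.ConsProp

/-- Over some field extension there is a morphism `X ⟶ Y` with the property `Q`. -/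
def ExistsRel (Q : MorphismProperty Scheme.{u}) : ∀ ⦃X Y T : Scheme.{u}⦄, (X ⟶ T) → (Y ⟶ T) → Prop :=
  fun X Y T gX gY => ∃ (T' X' Y' : Scheme.{u}) (h : T' ⟶ T) (gX' : X' ⟶ T') (gY' : Y' ⟶ T')
    (eX : X' ⟶ X) (eY : Y' ⟶ Y), IsIntegral T' ∧ Subsingleton ↥T' ∧
    IsPullback eX gX' gX h ∧ IsPullback eY gY' gY h ∧ ∃ g : X' ⟶ Y', g ≫ gY' = gX' ∧ Q g

variable {Q : MorphismProperty Scheme.{u}} [Q.IsStableUnderBaseChange] {X Y T X₁ Y₁ T₁ : Scheme.{u}}

/-- Data over `T₁` give data over every scheme over `T₁`. -/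
theorem bc_hom {gX : X ⟶ T} {gY : Y ⟶ T} {h : T₁ ⟶ T} {gX₁ : X₁ ⟶ T₁} {gY₁ : Y₁ ⟶ T₁} {eX : X₁ ⟶ X}
    {eY : Y₁ ⟶ Y} (hX : IsPullback eX gX₁ gX h) (hY : IsPullback eY gY₁ gY h) {g : X₁ ⟶ Y₁}
    (hg : g ≫ gY₁ = gX₁) (hQ : Q g) {L : Scheme.{u}} (u : L ⟶ T₁) :
    ∃ (X' Y' : Scheme.{u}) (gX' : X' ⟶ L) (gY' : Y' ⟶ L) (eX' : X' ⟶ X) (eY' : Y' ⟶ Y) (g' : X' ⟶ Y'),
      IsPullback eX' gX' gX (u ≫ h) ∧ IsPullback eY' gY' gY (u ≫ h) ∧ g' ≫ gY' = gX' ∧ Q g' := by
  let g' : pullback gX₁ u ⟶ pullback gY₁ u := pullback.lift (pullback.fst gX₁ u ≫ g) (pullback.snd gX₁ u)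
    (by rw [Category.assoc, hg, pullback.condition])
  have hg' : g' ≫ pullback.snd gY₁ u = pullback.snd gX₁ u := pullback.lift_snd _ _ _
  have hsq : IsPullback (pullback.fst gX₁ u) g' g (pullback.fst gY₁ u) := by
    refine IsPullback.of_bot ?_ (pullback.lift_fst _ _ _).symm (IsPullback.of_hasPullback gY₁ u)
    rw [hg', hg]
    exact IsPullback.of_hasPullback gX₁ u
  exact ⟨_, _, _, _, _, _, g', (IsPullback.of_hasPullback gX₁ u).paste_horiz hX,
    (IsPullback.of_hasPullback gY₁ u).paste_horiz hY, hg', MorphismProperty.of_isPullback hsq hQ⟩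

theorem isFieldStablePair_existsRel : ConsPropPair.IsFieldStablePair (ExistsRel Q) := by
  intro X X' Y Y' T T' gX gY gX' gY' eX eY h _ _ _ _ _ _ _ _ hX hY
  constructor
  · rintro ⟨K, XK, YK, hK, gXK, gYK, aX, aY, _, _, sX, sY, g, hg, hQ⟩
    obtain ⟨k⟩ : Nonempty ↥K := inferInstance
    obtain ⟨t⟩ : Nonempty ↥T' := inferInstance
    obtain ⟨z, -, -⟩ := Scheme.Pullback.exists_preimage_pullback (f := h) (g := hK) t k (Subsingleton.elim _ _)
    let p := (pullback h hK).fromSpecResidueField z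
    obtain ⟨XL, YL, gXL, gYL, bX, bY, gL, tX, tY, hgL, hQL⟩ := bc_hom sX sY hg hQ (p ≫ pullback.snd h hK)
    have e : (p ≫ pullback.snd h hK) ≫ hK = (p ≫ pullback.fst h hK) ≫ h := by
      simp [pullback.condition]
    rw [e] at tX tY
    exact ⟨_, XL, YL, p ≫ pullback.fst h hK, gXL, gYL,
      hX.lift bX (gXL ≫ p ≫ pullback.fst h hK) (by rw [tX.w]; simp only [Category.assoc]),
      hY.lift bY (gYL ≫ p ≫ pullback.fst h hK) (by rw [tY.w]; simp only [Category.assoc]),
      inferInstance, inferInstance,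
      IsPullback.of_right (by rw [IsPullback.lift_fst]; exact tX) (IsPullback.lift_snd _ _ _ _) hX,
      IsPullback.of_right (by rw [IsPullback.lift_fst]; exact tY) (IsPullback.lift_snd _ _ _ _) hY, gL, hgL, hQL⟩
  · rintro ⟨K, XK, YK, hK, gXK, gYK, aX, aY, hKi, hKs, sX, sY, hg⟩
    exact ⟨K, XK, YK, hK ≫ h, gXK, gYK, aX ≫ eX, aY ≫ eY, hKi, hKs, sX.paste_horiz hX, sY.paste_horiz hY, hg⟩

/-- A morphism with `Q` over a scheme gives one for the fibres below each of its points. -/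
theorem existsRel_fibre {u : X ⟶ T} {v : Y ⟶ T} {p : T₁ ⟶ T} {gX₁ : X₁ ⟶ T₁} {gY₁ : Y₁ ⟶ T₁} {eX : X₁ ⟶ X}
    {eY : Y₁ ⟶ Y} (hX : IsPullback eX gX₁ u p) (hY : IsPullback eY gY₁ v p) {g : X₁ ⟶ Y₁}
    (hg : g ≫ gY₁ = gX₁) (hQ : Q g) (a : T₁) :
    p a ∈ ConsPropPair.locusPair (ExistsRel Q) u v := by
  obtain ⟨XL, YL, gXL, gYL, bX, bY, gL, tX, tY, hgL, hQL⟩ := bc_hom hX hY hg hQ (T₁.fromSpecResidueField a)
  have e : T₁.fromSpecResidueField a ≫ p =
      Spec.map (p.residueFieldMap a) ≫ T.fromSpecResidueField (p a) := by simp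
  rw [e] at tX tY
  have hX' : IsPullback (u.fiberι (p a)) (u.fiberToSpecResidueField (p a)) u (T.fromSpecResidueField (p a)) :=
    IsPullback.of_hasPullback _ _
  have hY' : IsPullback (v.fiberι (p a)) (v.fiberToSpecResidueField (p a)) v (T.fromSpecResidueField (p a)) :=
    IsPullback.of_hasPullback _ _
  exact ⟨_, XL, YL, Spec.map (p.residueFieldMap a), gXL, gYL,
    hX'.lift bX (gXL ≫ Spec.map (p.residueFieldMap a)) (by rw [tX.w]; simp only [Category.assoc]),
    hY'.lift bY (gYL ≫ Spec.map (p.residueFieldMap a)) (by rw [tY.w]; simp only [Category.assoc]),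
    inferInstance, inferInstance,
    IsPullback.of_right (by rw [IsPullback.lift_fst]; exact tX) (IsPullback.lift_snd _ _ _ _) hX',
    IsPullback.of_right (by rw [IsPullback.lift_fst]; exact tY) (IsPullback.lift_snd _ _ _ _) hY', gL, hgL, hQL⟩

/-- An affine scheme over an affine open is a limit of schemes of finite type over the base. -/
theorem exists_system_over {S : Scheme.{u}} [IsNoetherian S] (T : Scheme.{u}) [IsAffine T] (h : T ⟶ S)
    {U : S.Opens} (hU : IsAffineOpen U) (hTU : ∀ t, h t ∈ U) :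
    ∃ (I : Type u) (_ : SmallCategory I) (_ : IsCofiltered I) (D : I ⥤ Scheme.{u}) (c : Cone D) (_ : IsLimit c)
      (p : ∀ i, D.obj i ⟶ S) (e : T ≅ c.pt), (∀ i, IsAffine (D.obj i)) ∧
      (∀ i, LocallyOfFinitePresentation (p i)) ∧ (∀ i j (a : i ⟶ j), D.map a ≫ p j = p i) ∧
      ∀ i, e.hom ≫ c.π.app i ≫ p i = h := by
  classical
  have hrange : Set.range h ⊆ Set.range U.ι := by
    rw [Scheme.Opens.range_ι]; rintro _ ⟨t, rfl⟩; exact hTU t
  haveI : IsAffine U.toScheme := hU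
  let r : Γ(U.toScheme, ⊤) ⟶ Γ(T, ⊤) := (IsOpenImmersion.lift U.ι h hrange).appTop
  letI : Algebra Γ(U.toScheme, ⊤) Γ(T, ⊤) := r.hom.toAlgebra
  haveI : IsLocallyNoetherian U.toScheme := inferInstance
  haveI : IsNoetherianRing Γ(U.toScheme, ⊤) :=
    IsLocallyNoetherian.component_noetherian ⟨⊤, isAffineOpen_top _⟩
  let B : Finset Γ(T, ⊤) → Subalgebra Γ(U.toScheme, ⊤) Γ(T, ⊤) :=
    fun s => Algebra.adjoin Γ(U.toScheme, ⊤) (s : Set Γ(T, ⊤))
  have hB : Monotone B := fun s t h => Algebra.adjoin_mono h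
  let D := LimSch.subalgDiag B hB
  let c : Cone D := LimSch.subalgCone B hB
  let p : ∀ i, D.obj i ⟶ S := fun i =>
    Spec.map (CommRingCat.ofHom (algebraMap Γ(U.toScheme, ⊤) (B i.unop))) ≫ U.toScheme.isoSpec.inv ≫ U.ι
  refine ⟨(Finset Γ(T, ⊤))ᵒᵖ, inferInstance, inferInstance, D, c, ?_, p, ?_, ?_, ?_, ?_, ?_⟩
  · exact LimSch.isLimitSubalgCone B hB fun b => ⟨{b}, Algebra.subset_adjoin (by simp)⟩
  · exact T.isoSpec
  · exact fun i => inferInstanceAs (IsAffine (Spec (CommRingCat.of (B i.unop))))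
  · intro i
    haveI : Algebra.FiniteType Γ(U.toScheme, ⊤) (B i.unop) :=
      ⟨(Subalgebra.fg_top _).mpr ⟨i.unop, rfl⟩⟩
    haveI : LocallyOfFiniteType (Spec.map (CommRingCat.ofHom (algebraMap Γ(U.toScheme, ⊤) (B i.unop)))) :=
      (HasRingHomProperty.Spec_iff (P := @LocallyOfFiniteType)).mpr (RingHom.finiteType_algebraMap.mpr ‹_›)
    haveI : LocallyOfFiniteType (p i) := MorphismProperty.comp_mem _ _ _ ‹_› inferInstance
    exact (LocallyOfFinitePresentation.iff_locallyOfFiniteType).mpr ‹_›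
  · intro i j a
    show Spec.map _ ≫ Spec.map _ ≫ _ = Spec.map _ ≫ _
    rw [← Category.assoc, ← Spec.map_comp]
    rfl
  · intro i
    show T.isoSpec.hom ≫ Spec.map _ ≫ Spec.map _ ≫ _ = h
    rw [← Category.assoc (Spec.map _), ← Spec.map_comp]
    have : CommRingCat.ofHom (algebraMap Γ(U.toScheme, ⊤) (B i.unop)) ≫
        CommRingCat.ofHom (B i.unop).val.toRingHom = r := rfl
    erw [this, Scheme.isoSpec_hom_naturality_assoc]
    rw [Iso.hom_inv_id_assoc, IsOpenImmersion.lift_fac]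

theorem isIndConsPair_existsRel
    (hQ : LimSch.Descends.{u} Q @LocallyOfFinitePresentation) :
    ConsPropPair.IsIndConsPair (ExistsRel Q) := by
  refine ⟨isFieldStablePair_existsRel, fun X Y S u v _ _ _ _ _ _ hη => ?_⟩
  obtain ⟨K, XK, YK, hK, gXK, gYK, aX, aY, _, _, sX, sY, g, hg, hQg⟩ := hη
  haveI : LocallyOfFinitePresentation u := LocallyOfFinitePresentation.iff_locallyOfFiniteType.mpr ‹_›
  haveI : LocallyOfFinitePresentation v := LocallyOfFinitePresentation.iff_locallyOfFiniteType.mpr ‹_›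
  haveI : IsLocallyNoetherian X := LocallyOfFiniteType.isLocallyNoetherian u
  haveI : IsLocallyNoetherian Y := LocallyOfFiniteType.isLocallyNoetherian v
  obtain ⟨U, hU, hηU, -⟩ := ProConsLib.exists_affine_subset isOpen_univ (Set.mem_univ (genericPoint S))
  let h : K ⟶ S := hK ≫ S.fromSpecResidueField (genericPoint S)
  have hpt : ∀ t, h t = genericPoint S := fun t =>
    Set.mem_singleton_iff.mp ((Scheme.range_fromSpecResidueField (genericPoint S)).le ⟨hK t, rfl⟩)
  obtain ⟨I, _, _, D, c, hc, p, e, hA, hp, hpc, hpe⟩ := exists_system_over K h hU fun t => by rw [hpt]; exact hηU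
  haveI : ∀ (i j : I) (a : i ⟶ j), IsAffineHom (D.map a) := fun i j a => inferInstance
  obtain ⟨i₀⟩ := IsCofiltered.nonempty (C := I)
  -- the data over the limit
  have kX : IsPullback (aX ≫ u.fiberι (genericPoint S)) (gXK ≫ e.hom) u (c.π.app i₀ ≫ p i₀) := by
    refine (sX.paste_horiz (IsPullback.of_hasPullback u (S.fromSpecResidueField (genericPoint S)))).of_iso
      (Iso.refl _) (Iso.refl _) e (Iso.refl _) (by simp [Scheme.Hom.fiberι]) (by simp) (by simp) ?_
    simp only [Iso.refl_hom, Category.comp_id]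
    exact (hpe i₀).symm
  have kY : IsPullback (aY ≫ v.fiberι (genericPoint S)) (gYK ≫ e.hom) v (c.π.app i₀ ≫ p i₀) := by
    refine (sY.paste_horiz (IsPullback.of_hasPullback v (S.fromSpecResidueField (genericPoint S)))).of_iso
      (Iso.refl _) (Iso.refl _) e (Iso.refl _) (by simp [Scheme.Hom.fiberι]) (by simp) (by simp) ?_
    simp only [Iso.refl_hom, Category.comp_id]
    exact (hpe i₀).symm
  let xi := pullback.snd u (p i₀)
  let yi := pullback.snd v (p i₀)
  let qX : XK ⟶ pullback u (p i₀) := pullback.lift (aX ≫ u.fiberι (genericPoint S))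
    ((gXK ≫ e.hom) ≫ c.π.app i₀) (by rw [Category.assoc _ (c.π.app i₀)]; exact kX.w)
  let qY : YK ⟶ pullback v (p i₀) := pullback.lift (aY ≫ v.fiberι (genericPoint S))
    ((gYK ≫ e.hom) ≫ c.π.app i₀) (by rw [Category.assoc _ (c.π.app i₀)]; exact kY.w)
  have hXi : IsPullback qX (gXK ≫ e.hom) xi (c.π.app i₀) :=
    IsPullback.of_right (by rw [pullback.lift_fst]; exact kX) (pullback.lift_snd _ _ _) (IsPullback.of_hasPullback u (p i₀))
  have hYi : IsPullback qY (gYK ≫ e.hom) yi (c.π.app i₀) :=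
    IsPullback.of_right (by rw [pullback.lift_fst]; exact kY) (pullback.lift_snd _ _ _) (IsPullback.of_hasPullback v (p i₀))
  haveI : QuasiSeparated u := QuasiSeparated.of_comp u (terminal.from S)
  haveI : QuasiSeparated v := QuasiSeparated.of_comp v (terminal.from S)
  haveI : CompactSpace ↥(pullback u (p i₀)) := QuasiCompact.compactSpace_of_compactSpace xi
  haveI : QuasiSeparatedSpace ↥(pullback u (p i₀)) := quasiSeparatedSpace_of_quasiSeparated xi
  obtain ⟨j, φ, g₀, hg₀, hg₀q⟩ := LimSch.exists_hom_stage D c hc hXi (yi := yi) (g ≫ qY) (by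
    rw [Category.assoc, hYi.w, ← Category.assoc, ← Category.assoc g, hg])
  let xj := pullback.snd xi (D.map φ)
  let yj := pullback.snd yi (D.map φ)
  let g₁ : pullback xi (D.map φ) ⟶ pullback yi (D.map φ) := pullback.lift g₀ xj hg₀
  have hg₁ : g₁ ≫ yj = xj := pullback.lift_snd _ _ _
  let qXj : XK ⟶ pullback xi (D.map φ) := pullback.lift qX ((gXK ≫ e.hom) ≫ c.π.app j)
    (by rw [Category.assoc _ (c.π.app j), c.w]; exact hXi.w)
  let qYj : YK ⟶ pullback yi (D.map φ) := pullback.lift qY ((gYK ≫ e.hom) ≫ c.π.app j)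
    (by rw [Category.assoc _ (c.π.app j), c.w]; exact hYi.w)
  have hXj : IsPullback qXj (gXK ≫ e.hom) xj (c.π.app j) := by
    refine IsPullback.of_right ?_ (pullback.lift_snd _ _ _) (IsPullback.of_hasPullback xi (D.map φ))
    rw [pullback.lift_fst, c.w]; exact hXi
  have hYj : IsPullback qYj (gYK ≫ e.hom) yj (c.π.app j) := by
    refine IsPullback.of_right ?_ (pullback.lift_snd _ _ _) (IsPullback.of_hasPullback yi (D.map φ))
    rw [pullback.lift_fst, c.w]; exact hYi
  have hgj : IsPullback qXj g g₁ qYj := by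
    refine IsPullback.of_bot ?_ ?_ hYj
    · rw [hg₁, ← Category.assoc, hg]; exact hXj
    · apply pullback.hom_ext
      · rw [Category.assoc, pullback.lift_fst, Category.assoc, pullback.lift_fst]
        exact hg₀q
      · rw [Category.assoc, pullback.lift_snd, Category.assoc, pullback.lift_snd, pullback.lift_snd,
          ← Category.assoc g, ← Category.assoc g, hg]
  haveI : LocallyOfFinitePresentation g₁ := by
    haveI : LocallyOfFinitePresentation (g₁ ≫ yj) := by rw [hg₁]; infer_instance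
    exact Groth.Agent.AlgSpc.lfp_of_comp g₁ yj
  haveI : QuasiCompact g₁ := by
    haveI : QuasiCompact (g₁ ≫ yj) := by rw [hg₁]; infer_instance
    exact QuasiCompact.of_comp g₁ yj
  haveI : QuasiSeparated g₁ := by
    haveI : QuasiSeparated (g₁ ≫ yj) := by rw [hg₁]; infer_instance
    exact QuasiSeparated.of_comp g₁ yj
  haveI : CompactSpace ↥(pullback yi (D.map φ)) := QuasiCompact.compactSpace_of_compactSpace yj
  obtain ⟨l, χ, Xl, Yl, gl, yl, pY, pX, h1, h2, hQl⟩ :=
    LimSch.Descends.over D c hc j g₁ yj g (gYK ≫ e.hom) qYj qXj hYj hgj hQ ‹_› hQg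
  have hp2 : D.map χ ≫ D.map φ ≫ p i₀ = p l := by rw [hpc, hpc]
  have tX : IsPullback ((pX ≫ pullback.fst xi (D.map φ)) ≫ pullback.fst u (p i₀)) (gl ≫ yl) u (p l) := by
    have h3 := h2.paste_vert h1
    rw [hg₁] at h3
    have h4 := (h3.paste_horiz (IsPullback.of_hasPullback xi (D.map φ))).paste_horiz
      (IsPullback.of_hasPullback u (p i₀))
    rwa [Category.assoc (D.map χ), hp2] at h4
  have tY : IsPullback ((pY ≫ pullback.fst yi (D.map φ)) ≫ pullback.fst v (p i₀)) yl v (p l) := by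
    have h4 := (h1.paste_horiz (IsPullback.of_hasPullback yi (D.map φ))).paste_horiz
      (IsPullback.of_hasPullback v (p i₀))
    rwa [Category.assoc (D.map χ), hp2] at h4
  -- the image of the stage contains a neighbourhood of the generic point
  have hsub : Set.range (p l) ⊆ ConsPropPair.locusPair (ExistsRel Q) u v := by
    rintro _ ⟨a, rfl⟩
    exact existsRel_fibre tX tY rfl hQl a
  have hind : ProCons.IsIndConstructible (Set.range (p l)) := by
    rw [← Set.image_univ]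
    exact ProConsLib.isInd_image (p l) (ProConsLib.isInd_of_isOpen isOpen_univ)
  obtain ⟨t⟩ : Nonempty ↥K := inferInstance
  have hηr : genericPoint S ∈ interior (Set.range (p l)) :=
    (ProConsLib.mem_interior_iff hind).mpr fun x hx => by
      rw [show x = genericPoint S from (hx.antisymm (genericPoint_specializes x)).eq]
      refine ⟨c.π.app l (e.hom t), ?_⟩
      rw [← hpt t, ← hpe l, Scheme.Hom.comp_apply, Scheme.Hom.comp_apply]
  exact ⟨_, interior_mono hsub hηr⟩

omit [Q.IsStableUnderBaseChange] in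
theorem descends_of_le {H H' : MorphismProperty Scheme.{u}} (hQ : LimSch.Descends.{u} Q H) (hle : H' ≤ H) :
    LimSch.Descends.{u} Q H' := fun D c hc _ i _ _ f₀ _ _ h _ q f hsq hf =>
  hQ D c hc i f₀ (hle _ h) q f hsq hf

end Groth.Agent.ConsProp
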