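import Groth.Agent.ConsProp.Mor

/-!
"All fibres have a constructible property" is a constructible property of morphisms (EGA IV 9.3.1).
-/

set_option autoImplicit false
universe u

open CategoryTheory Limits AlgebraicGeometry Topology TopologicalSpace

namespace Groth.Agent.ConsProp

variable {P : ∀ ⦃Y T : Scheme.{u}⦄, (Y ⟶ T) → Prop} {X Y X' Y' : Scheme.{u}}

theorem locus_preimage (hP : ConsProp.IsFieldStable P) {f : X ⟶ Y} {f' : X' ⟶ Y'} {eX : X' ⟶ X} {h : Y' ⟶ Y}
    [LocallyOfFiniteType f] [QuasiCompact f] (hX : IsPullback eX f' f h) :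
    ConsProp.locus P f' = h ⁻¹' ConsProp.locus P f := by
  ext y'
  haveI : LocallyOfFiniteType (f.fiberToSpecResidueField (h y')) :=
    MorphismProperty.pullback_snd _ _ ‹LocallyOfFiniteType f›
  haveI : QuasiCompact (f.fiberToSpecResidueField (h y')) := MorphismProperty.pullback_snd _ _ ‹QuasiCompact f›
  exact (hP (f.fiberToSpecResidueField (h y')) _ _ _
    (isPullback_fiberToSpecResidueField_of_isPullback hX y')).symm

section Noetherian

variable (f : X ⟶ Y) [IsLocallyNoetherian Y] [LocallyOfFiniteType f] [QuasiCompact f]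

theorem isLocallyConstructible_locus (hP : ConsProp.IsCons P) :
    IsLocallyConstructible (ConsProp.locus P f) := by
  intro y
  obtain ⟨U, hU, hyU, -⟩ := ProConsLib.exists_affine_subset isOpen_univ (Set.mem_univ y)
  refine ⟨U, U.2.mem_nhds hyU, U.2, ?_⟩
  haveI : IsNoetherianRing Γ(Y, U) := IsLocallyNoetherian.component_noetherian ⟨U, hU⟩
  have h := isConstructible_spec (ConsProp.locus P (pullback.snd f hU.fromSpec)) fun Z j _ _ _ => by
    rw [← locus_preimage hP.1 (IsPullback.of_hasPullback (pullback.snd f hU.fromSpec) j)]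
    exact hP.2 _
  rw [locus_preimage hP.1 (IsPullback.of_hasPullback f hU.fromSpec)] at h
  have h' := Scheme.Hom.isConstructible_preimage hU.isoSpec.hom h
  rw [← Set.preimage_comp, ← TopCat.coe_comp, ← Scheme.Hom.comp_base, IsAffineOpen.isoSpec_hom_fromSpec] at h'
  exact h'

theorem isInd_locus (hP : ConsProp.IsIndCons P) : ProCons.IsIndConstructible (ConsProp.locus P f) := by
  refine ProConsLib.isInd_of_affine fun y => ?_
  obtain ⟨U, hU, hyU, -⟩ := ProConsLib.exists_affine_subset isOpen_univ (Set.mem_univ y)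
  refine ⟨U, hU, hyU, ?_⟩
  haveI : IsNoetherianRing Γ(Y, U) := IsLocallyNoetherian.component_noetherian ⟨U, hU⟩
  have h := isInd_spec (ConsProp.locus P (pullback.snd f hU.fromSpec)) fun Z j _ _ _ => by
    rw [← locus_preimage hP.1 (IsPullback.of_hasPullback (pullback.snd f hU.fromSpec) j)]
    exact hP.2 _
  rw [locus_preimage hP.1 (IsPullback.of_hasPullback f hU.fromSpec)] at h
  have h' := ProConsLib.isInd_preimage hU.isoSpec.hom h
  rw [← Set.preimage_comp, ← TopCat.coe_comp, ← Scheme.Hom.comp_base, IsAffineOpen.isoSpec_hom_fromSpec] at h'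
  haveI := ProConsLib.spectralSpace_opens hU
  exact ProConsLib.isOpen_con_preimage_of_isInd IsOpenEmbedding.id h'

end Noetherian

theorem isLocallyConstructible_compl {W : Type u} [TopologicalSpace W] {E : Set W} (hE : IsLocallyConstructible E) :
    IsLocallyConstructible Eᶜ := fun x => by
  obtain ⟨U, hU, hUo, h⟩ := hE x
  exact ⟨U, hU, hUo, h.compl⟩

theorem isFieldStableMor_forall (hP : ConsProp.IsFieldStable P) :
    ConsProp.IsFieldStableMor (fun X Y T f g => ∀ y : ↥Y, P (f.fiberToSpecResidueField y)) := by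
  intro X X' Y Y' T T' f g f' g' eX eY h _ _ _ _ _ _ _ _ hY hX
  haveI : LocallyOfFiniteType f := locallyOfFiniteType_of_comp f g
  haveI : IsLocallyNoetherian Y := LocallyOfFiniteType.isLocallyNoetherian g
  haveI : QuasiSeparated g := QuasiSeparated.of_comp g (terminal.from T)
  haveI : QuasiCompact f := QuasiCompact.of_comp f g
  have key := locus_preimage hP hX
  constructor
  · exact fun hall y' => (Set.ext_iff.mp key y').mpr (hall (eY y'))
  · intro hall y
    obtain ⟨t⟩ : Nonempty ↥T' := inferInstance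
    obtain ⟨y', hy', -⟩ := Scheme.exists_preimage_of_isPullback hY y t (Subsingleton.elim _ _)
    exact hy' ▸ (Set.ext_iff.mp key y').mp (hall y')

theorem locusMor_forall (hP : ConsProp.IsFieldStable P) {S : Scheme.{u}} (f : X ⟶ Y) (g : Y ⟶ S)
    [LocallyOfFiniteType f] [QuasiCompact f] :
    ConsProp.locusMor (fun X Y T f g => ∀ y : ↥Y, P (f.fiberToSpecResidueField y)) f g =
      (g '' (ConsProp.locus P f)ᶜ)ᶜ := by
  ext s
  have hsq : IsPullback ((f ≫ g).fiberι s) (MoreMor.fiberMap f g s) f (g.fiberι s) :=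
    IsPullback.of_bot (by erw [fiberMap_snd]; exact IsPullback.of_hasPullback (f ≫ g) (S.fromSpecResidueField s))
      (pullback.lift_fst _ _ _).symm (IsPullback.of_hasPullback g (S.fromSpecResidueField s))
  have key := locus_preimage hP hsq
  constructor
  · rintro hall ⟨y, hy, hys⟩
    obtain ⟨y', rfl⟩ : y ∈ Set.range (g.fiberι s) := by rw [Scheme.Hom.range_fiberι]; exact hys
    exact hy ((Set.ext_iff.mp key y').mp (hall y'))
  · intro hs y'
    refine (Set.ext_iff.mp key y').mpr (not_not.mp fun hn => hs ⟨g.fiberι s y', hn, ?_⟩)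
    exact (Scheme.Hom.range_fiberι g s).le ⟨y', rfl⟩

section Family

variable {S : Scheme.{u}} [IsIntegral S] [IsNoetherian S] (f : X ⟶ Y) (g : Y ⟶ S)
  [LocallyOfFiniteType g] [QuasiCompact g] [LocallyOfFiniteType (f ≫ g)] [QuasiCompact (f ≫ g)]

theorem genericPoint_mem_interior {E : Set S} (hE : ProCons.IsIndConstructible E) (h : genericPoint S ∈ E) :
    genericPoint S ∈ interior E :=
  (ProConsLib.mem_interior_iff hE).mpr fun x hx => by
    rwa [show x = genericPoint S from (hx.antisymm (genericPoint_specializes x)).eq]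

theorem isConsMor_forall (hP : ConsProp.IsCons P) :
    ConsProp.IsConsMor (fun X Y T f g => ∀ y : ↥Y, P (f.fiberToSpecResidueField y)) := by
  refine ⟨isFieldStableMor_forall hP.1, fun X Y S f g _ _ _ _ _ _ => ?_⟩
  haveI : LocallyOfFiniteType f := locallyOfFiniteType_of_comp f g
  haveI : IsLocallyNoetherian Y := LocallyOfFiniteType.isLocallyNoetherian g
  haveI : QuasiSeparated g := QuasiSeparated.of_comp g (terminal.from S)
  haveI : QuasiCompact f := QuasiCompact.of_comp f g
  rw [locusMor_forall hP.1]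
  have hE : IsLocallyConstructible (g '' (ConsProp.locus P f)ᶜ)ᶜ :=
    isLocallyConstructible_compl (g.isLocallyConstructible_image (isLocallyConstructible_compl (isLocallyConstructible_locus f hP)))
  by_cases h : genericPoint S ∈ (g '' (ConsProp.locus P f)ᶜ)ᶜ
  · exact Or.inl ⟨_, genericPoint_mem_interior (ProConsLib.isInd_of_isLocallyConstructible hE) h⟩
  · exact Or.inr ⟨_, genericPoint_mem_interior (ProConsLib.isInd_of_isLocallyConstructible (isLocallyConstructible_compl hE)) h⟩

theorem isIndConsMor_forall (hP : ConsProp.IsIndCons P) :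
    ConsProp.IsIndConsMor (fun X Y T f g => ∀ y : ↥Y, P (f.fiberToSpecResidueField y)) := by
  refine ⟨isFieldStableMor_forall hP.1, fun X Y S f g _ _ _ _ _ _ hη => ?_⟩
  haveI : LocallyOfFiniteType f := locallyOfFiniteType_of_comp f g
  haveI : IsLocallyNoetherian Y := LocallyOfFiniteType.isLocallyNoetherian g
  haveI : QuasiSeparated g := QuasiSeparated.of_comp g (terminal.from S)
  haveI : QuasiCompact f := QuasiCompact.of_comp f g
  rw [locusMor_forall hP.1] at hη ⊢
  refine ⟨_, genericPoint_mem_interior (ProConsLib.isPro_iff_compl.1 ?_) hη⟩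
  exact ProConsLib.isPro_image g (ProConsLib.isInd_iff_compl.1 (isInd_locus f hP))

end Family

end Groth.Agent.ConsProp
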