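import Groth.Agent.ConsProp.Base
import Groth.Agent.LimSch.ProConsStage

/-!
Constructibility of the loci of constructible properties of morphisms (EGA IV 9.2.3, 9.3.3).
-/

set_option autoImplicit false
universe u

open CategoryTheory Limits AlgebraicGeometry Topology TopologicalSpace

namespace Groth.Agent.ConsProp

variable {P : ∀ ⦃X Y T : Scheme.{u}⦄, (X ⟶ Y) → (Y ⟶ T) → Prop} {X Y S X' Y' S' : Scheme.{u}}
  {f : X ⟶ Y} {g : Y ⟶ S} {f' : X' ⟶ Y'} {g' : Y' ⟶ S'} {eX : X' ⟶ X} {eY : Y' ⟶ Y} {h : S' ⟶ S}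

theorem fiberMap_snd (f : X ⟶ Y) (g : Y ⟶ S) (s : S) :
    MoreMor.fiberMap f g s ≫ g.fiberToSpecResidueField s = (f ≫ g).fiberToSpecResidueField s :=
  pullback.lift_snd _ _ _

/-- The locus of a field-stable relation commutes with base change. -/
theorem locusMor_preimage (hP : ConsProp.IsFieldStableMor P) [LocallyOfFiniteType g] [QuasiCompact g]
    [LocallyOfFiniteType (f ≫ g)] [QuasiCompact (f ≫ g)]
    (hY : IsPullback eY g' g h) (hX : IsPullback eX f' f eY) :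
    ConsProp.locusMor P f' g' = h ⁻¹' ConsProp.locusMor P f g := by
  ext s'
  have hXY := hX.paste_vert hY
  have hYs := isPullback_fiberToSpecResidueField_of_isPullback hY s'
  have hXs := isPullback_fiberToSpecResidueField_of_isPullback hXY s'
  haveI : LocallyOfFiniteType (g.fiberToSpecResidueField (h s')) :=
    MorphismProperty.pullback_snd _ _ ‹LocallyOfFiniteType g›
  haveI : QuasiCompact (g.fiberToSpecResidueField (h s')) := MorphismProperty.pullback_snd _ _ ‹QuasiCompact g›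
  haveI : LocallyOfFiniteType (MoreMor.fiberMap f g (h s') ≫ g.fiberToSpecResidueField (h s')) := by
    rw [fiberMap_snd]; exact MorphismProperty.pullback_snd _ _ ‹LocallyOfFiniteType (f ≫ g)›
  haveI : QuasiCompact (MoreMor.fiberMap f g (h s') ≫ g.fiberToSpecResidueField (h s')) := by
    rw [fiberMap_snd]; exact MorphismProperty.pullback_snd _ _ ‹QuasiCompact (f ≫ g)›
  refine (hP (MoreMor.fiberMap f g (h s')) (g.fiberToSpecResidueField (h s')) _ _ _ _ _ hYs (IsPullback.of_bot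
    (h₁₁ := pullback.map (f' ≫ g') (S'.fromSpecResidueField s') (f ≫ g) (S.fromSpecResidueField (h s')) eX
      (Spec.map (h.residueFieldMap s')) h hXY.w.symm (by simp)) ?_ ?_ hYs)).symm
  · erw [fiberMap_snd, fiberMap_snd]; exact hXs
  · apply pullback.hom_ext
    · dsimp only [MoreMor.fiberMap, Scheme.Hom.fiberι, Scheme.Hom.fiberToSpecResidueField, Scheme.Hom.fiber]
      repeat erw [Category.assoc]
      repeat erw [pullback.lift_fst]
      repeat erw [pullback.lift_fst_assoc]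
      repeat erw [Category.assoc]
      rw [hX.w]
      erw [pullback.lift_fst, pullback.lift_fst_assoc]
      simp
    · dsimp only [MoreMor.fiberMap, Scheme.Hom.fiberι, Scheme.Hom.fiberToSpecResidueField, Scheme.Hom.fiber]
      erw [Category.assoc, pullback.lift_snd, pullback.lift_snd, Category.assoc, pullback.lift_snd,
        pullback.lift_snd_assoc]

/-- Base change of a family of morphisms. -/
theorem exists_bc (f : X ⟶ Y) (g : Y ⟶ S) (h : S' ⟶ S) :
    ∃ (X' Y' : Scheme.{u}) (f' : X' ⟶ Y') (g' : Y' ⟶ S') (eX : X' ⟶ X) (eY : Y' ⟶ Y),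
      IsPullback eY g' g h ∧ IsPullback eX f' f eY :=
  ⟨_, _, pullback.snd f (pullback.fst g h), pullback.snd g h, pullback.fst f (pullback.fst g h), pullback.fst g h,
    IsPullback.of_hasPullback g h, IsPullback.of_hasPullback f _⟩

theorem of_bc (Q : MorphismProperty Scheme.{u}) [Q.IsStableUnderBaseChange] (hY : IsPullback eY g' g h)
    (hX : IsPullback eX f' f eY) (hg : Q g) (hfg : Q (f ≫ g)) : Q g' ∧ Q (f' ≫ g') :=
  ⟨MorphismProperty.of_isPullback hY hg, MorphismProperty.of_isPullback (hX.paste_vert hY) hfg⟩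

section Noetherian

variable {R : CommRingCat.{u}} [IsNoetherianRing R] (f : X ⟶ Y) (g : Y ⟶ Spec R) [LocallyOfFiniteType g]
  [QuasiCompact g] [LocallyOfFiniteType (f ≫ g)] [QuasiCompact (f ≫ g)]

theorem isConstructible_locusMor_spec (hP : ConsProp.IsConsMor P) :
    IsConstructible (ConsProp.locusMor P f g) :=
  isConstructible_spec _ fun Z j _ _ _ => by
    obtain ⟨X', Y', f', g', eX, eY, hY, hX⟩ := exists_bc f g j
    obtain ⟨_, _⟩ := of_bc @LocallyOfFiniteType hY hX ‹_› ‹_›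
    obtain ⟨_, _⟩ := of_bc @QuasiCompact hY hX ‹_› ‹_›
    rw [← locusMor_preimage hP.1 hY hX]
    exact hP.2 f' g'

theorem isInd_locusMor_spec (hP : ConsProp.IsIndConsMor P) :
    ProCons.IsIndConstructible (ConsProp.locusMor P f g) :=
  isInd_spec _ fun Z j _ _ _ => by
    obtain ⟨X', Y', f', g', eX, eY, hY, hX⟩ := exists_bc f g j
    obtain ⟨_, _⟩ := of_bc @LocallyOfFiniteType hY hX ‹_› ‹_›
    obtain ⟨_, _⟩ := of_bc @QuasiCompact hY hX ‹_› ‹_›
    rw [← locusMor_preimage hP.1 hY hX]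
    exact hP.2 f' g'

end Noetherian

section FP

variable (f : X ⟶ Y) (g : Y ⟶ S)
  [LocallyOfFinitePresentation g] [QuasiCompact g] [QuasiSeparated g]
  [LocallyOfFinitePresentation (f ≫ g)] [QuasiCompact (f ≫ g)] [QuasiSeparated (f ≫ g)]

/-- Over an affine base the locus comes from a Noetherian base. -/
theorem exists_locusMor_model (hP : ConsProp.IsFieldStableMor P) [IsAffine S] :
    ∃ (R : CommRingCat.{u}) (_ : IsNoetherianRing R) (π : S ⟶ Spec R) (X₀ Y₀ : Scheme.{u}) (f₀ : X₀ ⟶ Y₀)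
      (g₀ : Y₀ ⟶ Spec R), LocallyOfFiniteType g₀ ∧ QuasiCompact g₀ ∧ LocallyOfFiniteType (f₀ ≫ g₀) ∧
      QuasiCompact (f₀ ≫ g₀) ∧ ConsProp.locusMor P f g = π ⁻¹' ConsProp.locusMor P f₀ g₀ := by
  obtain ⟨I, _, _, D, c, hc, R, e, hR, hD⟩ := exists_system S
  haveI : ∀ i, IsAffine (D.obj i) := fun i => by rw [hD i]; infer_instance
  haveI : ∀ (i j : I) (a : i ⟶ j), IsAffineHom (D.map a) := fun i j a => inferInstance
  obtain ⟨X₁, Y₁, f₁, g₁, eX, eY, hY, hX⟩ := exists_bc f g e.inv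
  obtain ⟨_, _⟩ := of_bc @LocallyOfFinitePresentation hY hX ‹_› ‹_›
  obtain ⟨_, _⟩ := of_bc @QuasiCompact hY hX ‹_› ‹_›
  obtain ⟨_, _⟩ := of_bc @QuasiSeparated hY hX ‹_› ‹_›
  obtain ⟨j, X₀, Y₀, f₀, g₀, qX, qY, _, _, _, _, _, _, hY₀, hX₀⟩ := exists_stage_mor hc f₁ g₁
  let t : D.obj j ≅ Spec (R j) := eqToIso (hD j)
  refine ⟨R j, hR j, e.hom ≫ c.π.app j ≫ t.hom, X₀, Y₀, f₀, g₀ ≫ t.hom, inferInstance, inferInstance,
    by rw [← Category.assoc]; infer_instance, by rw [← Category.assoc]; infer_instance, ?_⟩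
  have ht : IsPullback qY g₁ (g₀ ≫ t.hom) (c.π.app j ≫ t.hom) :=
    hY₀.of_iso (Iso.refl _) (Iso.refl _) (Iso.refl _) t (by simp) (by simp) (by simp) (by simp)
  have h1 := locusMor_preimage hP hY hX
  have h2 : ConsProp.locusMor P f₁ g₁ = (c.π.app j ≫ t.hom) ⁻¹' ConsProp.locusMor P f₀ (g₀ ≫ t.hom) := by
    haveI : LocallyOfFiniteType (f₀ ≫ g₀ ≫ t.hom) := by rw [← Category.assoc]; infer_instance
    haveI : QuasiCompact (f₀ ≫ g₀ ≫ t.hom) := by rw [← Category.assoc]; infer_instance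
    exact locusMor_preimage hP ht hX₀
  ext s
  have := congrArg (fun T : Set ↥c.pt => e.hom s ∈ T) (h1.symm.trans h2)
  have he : e.inv (e.hom s) = s := by rw [← Scheme.Hom.comp_apply, e.hom_inv_id]; rfl
  simp only [Set.mem_preimage, he] at this
  exact Iff.of_eq this

theorem isLocallyConstructible_locusMor (hP : ConsProp.IsConsMor P) :
    IsLocallyConstructible (ConsProp.locusMor P f g) := by
  intro s
  obtain ⟨U, hU, hsU, -⟩ := ProConsLib.exists_affine_subset isOpen_univ (Set.mem_univ s)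
  refine ⟨U, U.2.mem_nhds hsU, U.2, ?_⟩
  obtain ⟨X', Y', f', g', eX, eY, hY, hX⟩ := exists_bc f g U.ι
  obtain ⟨_, _⟩ := of_bc @LocallyOfFinitePresentation hY hX ‹_› ‹_›
  obtain ⟨_, _⟩ := of_bc @QuasiCompact hY hX ‹_› ‹_›
  obtain ⟨_, _⟩ := of_bc @QuasiSeparated hY hX ‹_› ‹_›
  haveI : IsAffine U.toScheme := hU
  obtain ⟨R, _, π, X₀, Y₀, f₀, g₀, _, _, _, _, heq⟩ := exists_locusMor_model f' g' hP.1
  have := Scheme.Hom.isConstructible_preimage π (isConstructible_locusMor_spec f₀ g₀ hP)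
  rw [← heq, locusMor_preimage hP.1 hY hX] at this
  exact this

theorem isInd_locusMor (hP : ConsProp.IsIndConsMor P) :
    ProCons.IsIndConstructible (ConsProp.locusMor P f g) := by
  refine ProConsLib.isInd_of_affine fun s => ?_
  obtain ⟨U, hU, hsU, -⟩ := ProConsLib.exists_affine_subset isOpen_univ (Set.mem_univ s)
  refine ⟨U, hU, hsU, ?_⟩
  obtain ⟨X', Y', f', g', eX, eY, hY, hX⟩ := exists_bc f g U.ι
  obtain ⟨_, _⟩ := of_bc @LocallyOfFinitePresentation hY hX ‹_› ‹_›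
  obtain ⟨_, _⟩ := of_bc @QuasiCompact hY hX ‹_› ‹_›
  obtain ⟨_, _⟩ := of_bc @QuasiSeparated hY hX ‹_› ‹_›
  haveI : IsAffine U.toScheme := hU
  obtain ⟨R, _, π, X₀, Y₀, f₀, g₀, _, _, _, _, heq⟩ := exists_locusMor_model f' g' hP.1
  have h' := ProConsLib.isInd_preimage π (isInd_locusMor_spec f₀ g₀ hP)
  rw [← heq, locusMor_preimage hP.1 hY hX] at h'
  haveI := ProConsLib.spectralSpace_opens hU
  exact ProConsLib.isOpen_con_preimage_of_isInd IsOpenEmbedding.id h'

/-- A property holding on the limit holds at a stage. -/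
theorem forall_limit_iff (hP : ConsProp.IsIndConsMor P) {I : Type u} [SmallCategory I] [IsCofiltered I]
    (D : I ⥤ Scheme.{u}) (c : Cone D) (hc : IsLimit c) [∀ (i j : I) (a : i ⟶ j), IsAffineHom (D.map a)] (i₀ : I)
    [CompactSpace ↥(D.obj i₀)] {X₀ Y₀ : Scheme.{u}} (f₀ : X₀ ⟶ Y₀) (g₀ : Y₀ ⟶ D.obj i₀)
    [LocallyOfFinitePresentation g₀] [QuasiCompact g₀] [QuasiSeparated g₀]
    [LocallyOfFinitePresentation (f₀ ≫ g₀)] [QuasiCompact (f₀ ≫ g₀)] [QuasiSeparated (f₀ ≫ g₀)]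
    {X Y : Scheme.{u}} (f : X ⟶ Y) (g : Y ⟶ c.pt) (qY : Y ⟶ Y₀) (qX : X ⟶ X₀)
    (hY : IsPullback qY g g₀ (c.π.app i₀)) (hX : IsPullback qX f f₀ qY) :
    (∀ s : ↥c.pt, s ∈ ConsProp.locusMor P f g) ↔
    ∃ (j : I) (φ : j ⟶ i₀) (Xj Yj : Scheme.{u}) (fj : Xj ⟶ Yj) (gj : Yj ⟶ D.obj j)
      (pY : Yj ⟶ Y₀) (pX : Xj ⟶ X₀), IsPullback pY gj g₀ (D.map φ) ∧ IsPullback pX fj f₀ pY ∧
      ∀ t : ↥(D.obj j), t ∈ ConsProp.locusMor P fj gj := by
  have h0 : ConsProp.locusMor P f g = c.π.app i₀ ⁻¹' ConsProp.locusMor P f₀ g₀ := locusMor_preimage hP.1 hY hX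
  constructor
  · intro hall
    let F : ∀ l : Over i₀, Set ((Over.forget i₀ ⋙ D).obj l) := fun l =>
      D.map l.hom ⁻¹' ConsProp.locusMor P f₀ g₀
    haveI : ∀ (l m : Over i₀) (a : l ⟶ m), IsAffineHom ((Over.forget i₀ ⋙ D).map a) := fun l m a => inferInstanceAs (IsAffineHom (D.map a.left))
    haveI : CompactSpace ↥((Over.forget i₀ ⋙ D).obj (Over.mk (𝟙 i₀))) := ‹CompactSpace ↥(D.obj i₀)›
    obtain ⟨l, -, hl⟩ := LimSch.exists_stage_subset_of_proCons ((Functor.Initial.isLimitWhiskerEquiv (Over.forget i₀) c).symm hc)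
      (Over.mk (𝟙 i₀)) (fun _ => Set.univ) F (fun _ => ProConsLib.isPro_iff_compl.2 (by
        rw [Set.compl_univ]; exact ProConsLib.isInd_of_isOpen isOpen_empty))
      (fun l => ProConsLib.isInd_preimage _ (isInd_locusMor f₀ g₀ hP)) (fun _ _ _ => Set.subset_univ _)
      (fun l m a x hx => by
        have e1 : D.map a.left ≫ D.map m.hom = D.map l.hom := by rw [← D.map_comp, Over.w a]
        simp only [F, Set.mem_preimage, ← e1, Scheme.Hom.comp_apply] at hx ⊢
        exact hx)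
      (fun s _ => Set.mem_iUnion.mpr ⟨Over.mk (𝟙 i₀), by
        have := hall s
        rw [h0] at this
        simp only [F, Over.mk_hom, Set.mem_preimage]
        erw [D.map_id]
        exact this⟩)
    obtain ⟨Xj, Yj, fj, gj, pX, pY, hYj, hXj⟩ := exists_bc f₀ g₀ (D.map l.hom)
    refine ⟨l.left, l.hom, Xj, Yj, fj, gj, pY, pX, hYj, hXj, fun t => ?_⟩
    rw [locusMor_preimage hP.1 hYj hXj]
    exact hl l (𝟙 l) (Set.mem_univ t)
  · rintro ⟨j, φ, Xj, Yj, fj, gj, pY, pX, hYj, hXj, hall⟩ s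
    have h1 := hall (c.π.app j s)
    rw [locusMor_preimage hP.1 hYj hXj, Set.mem_preimage, ← Scheme.Hom.comp_apply, c.w] at h1
    rw [h0]
    exact h1

end FP

end Groth.Agent.ConsProp
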