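import Groth.Agent.ConsProp.Base
import Groth.Agent.LimSch.ProConsStage
import Groth.Prelude.Def_W4ega4s0809p4Pair

/-!
Constructibility of the loci of constructible properties of pairs of schemes (EGA IV 9.2.3, 9.3.3).
-/

set_option autoImplicit false
universe u

open CategoryTheory Limits AlgebraicGeometry Topology TopologicalSpace

namespace Groth.Agent.ConsProp

variable {P : ∀ ⦃X Y T : Scheme.{u}⦄, (X ⟶ T) → (Y ⟶ T) → Prop} {X Y S X' Y' S' : Scheme.{u}}
  {f : X ⟶ S} {g : Y ⟶ S} {f' : X' ⟶ S'} {g' : Y' ⟶ S'} {eX : X' ⟶ X} {eY : Y' ⟶ Y} {h : S' ⟶ S}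

/-- The locus of a field-stable relation on pairs commutes with base change. -/
theorem locusPair_preimage (hP : ConsPropPair.IsFieldStablePair P) [LocallyOfFiniteType f] [QuasiCompact f]
    [LocallyOfFiniteType g] [QuasiCompact g] (hX : IsPullback eX f' f h) (hY : IsPullback eY g' g h) :
    ConsPropPair.locusPair P f' g' = h ⁻¹' ConsPropPair.locusPair P f g := by
  ext s'
  haveI : LocallyOfFiniteType (f.fiberToSpecResidueField (h s')) :=
    MorphismProperty.pullback_snd _ _ ‹LocallyOfFiniteType f›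
  haveI : QuasiCompact (f.fiberToSpecResidueField (h s')) := MorphismProperty.pullback_snd _ _ ‹QuasiCompact f›
  haveI : LocallyOfFiniteType (g.fiberToSpecResidueField (h s')) :=
    MorphismProperty.pullback_snd _ _ ‹LocallyOfFiniteType g›
  haveI : QuasiCompact (g.fiberToSpecResidueField (h s')) := MorphismProperty.pullback_snd _ _ ‹QuasiCompact g›
  exact (hP (f.fiberToSpecResidueField (h s')) (g.fiberToSpecResidueField (h s')) _ _ _ _ _
    (isPullback_fiberToSpecResidueField_of_isPullback hX s')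
    (isPullback_fiberToSpecResidueField_of_isPullback hY s')).symm

section Noetherian

variable {R : CommRingCat.{u}} [IsNoetherianRing R] (f : X ⟶ Spec R) (g : Y ⟶ Spec R) [LocallyOfFiniteType f]
  [QuasiCompact f] [LocallyOfFiniteType g] [QuasiCompact g]

theorem isConstructible_locusPair_spec (hP : ConsPropPair.IsConsPair P) :
    IsConstructible (ConsPropPair.locusPair P f g) :=
  isConstructible_spec _ fun Z j _ _ _ => by
    rw [← locusPair_preimage hP.1 (IsPullback.of_hasPullback f j) (IsPullback.of_hasPullback g j)]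
    exact hP.2 _ _

theorem isInd_locusPair_spec (hP : ConsPropPair.IsIndConsPair P) :
    ProCons.IsIndConstructible (ConsPropPair.locusPair P f g) :=
  isInd_spec _ fun Z j _ _ _ => by
    rw [← locusPair_preimage hP.1 (IsPullback.of_hasPullback f j) (IsPullback.of_hasPullback g j)]
    exact hP.2 _ _

end Noetherian

section FP

variable (f : X ⟶ S) (g : Y ⟶ S)
  [LocallyOfFinitePresentation f] [QuasiCompact f] [QuasiSeparated f]
  [LocallyOfFinitePresentation g] [QuasiCompact g] [QuasiSeparated g]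

/-- Over an affine base the locus comes from a Noetherian base. -/
theorem exists_locusPair_model (hP : ConsPropPair.IsFieldStablePair P) [IsAffine S] :
    ∃ (R : CommRingCat.{u}) (_ : IsNoetherianRing R) (π : S ⟶ Spec R) (X₀ Y₀ : Scheme.{u}) (f₀ : X₀ ⟶ Spec R)
      (g₀ : Y₀ ⟶ Spec R), LocallyOfFiniteType f₀ ∧ QuasiCompact f₀ ∧ LocallyOfFiniteType g₀ ∧
      QuasiCompact g₀ ∧ ConsPropPair.locusPair P f g = π ⁻¹' ConsPropPair.locusPair P f₀ g₀ := by
  obtain ⟨I, _, _, D, c, hc, R, e, hR, hD⟩ := exists_system S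
  haveI : ∀ i, IsAffine (D.obj i) := fun i => by rw [hD i]; infer_instance
  haveI : ∀ (i j : I) (a : i ⟶ j), IsAffineHom (D.map a) := fun i j a => inferInstance
  have hX := IsPullback.of_hasPullback f e.inv
  have hY := IsPullback.of_hasPullback g e.inv
  obtain ⟨i₁, X₁, x₁, qX₁, _, _, _, hX₁⟩ := LimSch.exists_model hc (pullback.snd f e.inv)
  obtain ⟨i₂, Y₂, y₂, qY₂, _, _, _, hY₂⟩ := LimSch.exists_model hc (pullback.snd g e.inv)
  obtain ⟨j, a₁, a₂, -⟩ : ∃ (i : I) (_ : i ⟶ i₁) (_ : i ⟶ i₂), True :=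
    ⟨_, IsCofiltered.minToLeft i₁ i₂, IsCofiltered.minToRight i₁ i₂, trivial⟩
  obtain ⟨qX, hX₀⟩ := LimSch.isPullback_stage D c hc hX₁ a₁
  obtain ⟨qY, hY₀⟩ := LimSch.isPullback_stage D c hc hY₂ a₂
  let t : D.obj j ≅ Spec (R j) := eqToIso (hD j)
  let x₀ := pullback.snd x₁ (D.map a₁) ≫ t.hom
  let y₀ := pullback.snd y₂ (D.map a₂) ≫ t.hom
  refine ⟨R j, hR j, e.hom ≫ c.π.app j ≫ t.hom, _, _, x₀, y₀, inferInstance, inferInstance, inferInstance,
    inferInstance, ?_⟩
  have htX : IsPullback qX (pullback.snd f e.inv) x₀ (c.π.app j ≫ t.hom) :=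
    hX₀.of_iso (Iso.refl _) (Iso.refl _) (Iso.refl _) t (by simp) (by simp) (by simp [x₀]) (by simp)
  have htY : IsPullback qY (pullback.snd g e.inv) y₀ (c.π.app j ≫ t.hom) :=
    hY₀.of_iso (Iso.refl _) (Iso.refl _) (Iso.refl _) t (by simp) (by simp) (by simp [y₀]) (by simp)
  have h2 := (locusPair_preimage hP hX hY).symm.trans (locusPair_preimage hP htX htY)
  ext s
  have := congrArg (fun T : Set ↥c.pt => e.hom s ∈ T) h2
  have he : e.inv (e.hom s) = s := by rw [← Scheme.Hom.comp_apply, e.hom_inv_id]; rfl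
  simp only [Set.mem_preimage, he] at this
  exact Iff.of_eq this

theorem isLocallyConstructible_locusPair (hP : ConsPropPair.IsConsPair P) :
    IsLocallyConstructible (ConsPropPair.locusPair P f g) := by
  intro s
  obtain ⟨U, hU, hsU, -⟩ := ProConsLib.exists_affine_subset isOpen_univ (Set.mem_univ s)
  refine ⟨U, U.2.mem_nhds hsU, U.2, ?_⟩
  have hX := IsPullback.of_hasPullback f U.ι
  have hY := IsPullback.of_hasPullback g U.ι
  haveI : IsAffine U.toScheme := hU
  obtain ⟨R, _, π, X₀, Y₀, f₀, g₀, _, _, _, _, heq⟩ :=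
    exists_locusPair_model (pullback.snd f U.ι) (pullback.snd g U.ι) hP.1
  have := Scheme.Hom.isConstructible_preimage π (isConstructible_locusPair_spec f₀ g₀ hP)
  rw [← heq, locusPair_preimage hP.1 hX hY] at this
  exact this

theorem isInd_locusPair (hP : ConsPropPair.IsIndConsPair P) :
    ProCons.IsIndConstructible (ConsPropPair.locusPair P f g) := by
  refine ProConsLib.isInd_of_affine fun s => ?_
  obtain ⟨U, hU, hsU, -⟩ := ProConsLib.exists_affine_subset isOpen_univ (Set.mem_univ s)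
  refine ⟨U, hU, hsU, ?_⟩
  have hX := IsPullback.of_hasPullback f U.ι
  have hY := IsPullback.of_hasPullback g U.ι
  haveI : IsAffine U.toScheme := hU
  obtain ⟨R, _, π, X₀, Y₀, f₀, g₀, _, _, _, _, heq⟩ :=
    exists_locusPair_model (pullback.snd f U.ι) (pullback.snd g U.ι) hP.1
  have h' := ProConsLib.isInd_preimage π (isInd_locusPair_spec f₀ g₀ hP)
  rw [← heq, locusPair_preimage hP.1 hX hY] at h'
  haveI := ProConsLib.spectralSpace_opens hU
  exact ProConsLib.isOpen_con_preimage_of_isInd IsOpenEmbedding.id h'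

/-- A property holding on the limit holds at a stage. -/
theorem forall_limit_pair_iff (hP : ConsPropPair.IsIndConsPair P) {I : Type u} [SmallCategory I] [IsCofiltered I]
    (D : I ⥤ Scheme.{u}) (c : Cone D) (hc : IsLimit c) [∀ (i j : I) (a : i ⟶ j), IsAffineHom (D.map a)] (i₀ : I)
    [CompactSpace ↥(D.obj i₀)] {X₀ Y₀ : Scheme.{u}} (f₀ : X₀ ⟶ D.obj i₀) (g₀ : Y₀ ⟶ D.obj i₀)
    [LocallyOfFinitePresentation f₀] [QuasiCompact f₀] [QuasiSeparated f₀]
    [LocallyOfFinitePresentation g₀] [QuasiCompact g₀] [QuasiSeparated g₀]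
    {X Y : Scheme.{u}} (f : X ⟶ c.pt) (g : Y ⟶ c.pt) (qX : X ⟶ X₀) (qY : Y ⟶ Y₀)
    (hX : IsPullback qX f f₀ (c.π.app i₀)) (hY : IsPullback qY g g₀ (c.π.app i₀)) :
    (∀ s : ↥c.pt, s ∈ ConsPropPair.locusPair P f g) ↔
    ∃ (j : I) (φ : j ⟶ i₀) (Xj Yj : Scheme.{u}) (fj : Xj ⟶ D.obj j) (gj : Yj ⟶ D.obj j)
      (pX : Xj ⟶ X₀) (pY : Yj ⟶ Y₀), IsPullback pX fj f₀ (D.map φ) ∧ IsPullback pY gj g₀ (D.map φ) ∧
      ∀ t : ↥(D.obj j), t ∈ ConsPropPair.locusPair P fj gj := by
  have h0 : ConsPropPair.locusPair P f g = c.π.app i₀ ⁻¹' ConsPropPair.locusPair P f₀ g₀ :=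
    locusPair_preimage hP.1 hX hY
  constructor
  · intro hall
    let F : ∀ l : Over i₀, Set ((Over.forget i₀ ⋙ D).obj l) := fun l =>
      D.map l.hom ⁻¹' ConsPropPair.locusPair P f₀ g₀
    haveI : ∀ (l m : Over i₀) (a : l ⟶ m), IsAffineHom ((Over.forget i₀ ⋙ D).map a) := fun l m a => inferInstanceAs (IsAffineHom (D.map a.left))
    haveI : CompactSpace ↥((Over.forget i₀ ⋙ D).obj (Over.mk (𝟙 i₀))) := ‹CompactSpace ↥(D.obj i₀)›
    obtain ⟨l, -, hl⟩ := LimSch.exists_stage_subset_of_proCons ((Functor.Initial.isLimitWhiskerEquiv (Over.forget i₀) c).symm hc)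
      (Over.mk (𝟙 i₀)) (fun _ => Set.univ) F (fun _ => ProConsLib.isPro_iff_compl.2 (by
        rw [Set.compl_univ]; exact ProConsLib.isInd_of_isOpen isOpen_empty))
      (fun l => ProConsLib.isInd_preimage _ (isInd_locusPair f₀ g₀ hP)) (fun _ _ _ => Set.subset_univ _)
      (fun l m a x hx => by
        have e1 : D.map a.left ≫ D.map m.hom = D.map l.hom := by rw [← D.map_comp, Over.w a]
        simp only [F, Set.mem_preimage, ← e1, Scheme.Hom.comp_apply] at hx ⊢
        exact hx)
      (fun s _ => Set.mem_iUnion.mpr ⟨Over.mk (𝟙 i₀), by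
        have := hall s
        rw [h0] at this
        simp only [F, Over.mk_hom, Set.mem_preimage]
        erw [D.map_id]
        exact this⟩)
    have hXj := IsPullback.of_hasPullback f₀ (D.map l.hom)
    have hYj := IsPullback.of_hasPullback g₀ (D.map l.hom)
    refine ⟨l.left, l.hom, _, _, _, _, _, _, hXj, hYj, fun t => ?_⟩
    rw [locusPair_preimage hP.1 hXj hYj]
    exact hl l (𝟙 l) (Set.mem_univ t)
  · rintro ⟨j, φ, Xj, Yj, fj, gj, pX, pY, hXj, hYj, hall⟩ s
    have h1 := hall (c.π.app j s)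
    rw [locusPair_preimage hP.1 hXj hYj, Set.mem_preimage, ← Scheme.Hom.comp_apply, c.w] at h1
    rw [h0]
    exact h1

end FP

end Groth.Agent.ConsProp
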